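import Cfsg.Agent.Schur.SylowCover
import Cfsg.Agent.Schur.Pullback

/-!
# Kernels of stem extensions are bounded by the multipliers of the Sylow subgroups
-/

namespace CfsgLib.SchurSylow

open CfsgLib.Schur

universe u v w z

variable {G : Type u} [Group G]

theorem dvd_card_of_pGroup {p : ℕ} [hp : Fact p.Prime] {Γ : Type v} [Group Γ] [Finite Γ] {σ : Γ →* G}
    (hσ : Cfsg.IsStemExtension σ) (hK : IsPGroup p σ.ker) (Q : Sylow p G) {H : Type z} [Group H]
    (e : (Q : Subgroup G) ≃* H) {B : Type w} [CommGroup B] (hB : Cfsg.HasSchurMultiplier H B) :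
    Nat.card σ.ker ∣ Nat.card B := by
  classical
  haveI : Finite G := Finite.of_surjective σ hσ.1
  obtain ⟨P, hP⟩ := exists_sylow_comap hσ.1 hK Q
  have hc : ∀ x ∈ σ.ker, ∀ g, g * x = x * g := fun x hx => Subgroup.mem_center_iff.1 (hσ.2.1 hx)
  have hKP : ∀ x ∈ σ.ker, x ∈ (P : Subgroup Γ) := fun x hx => by
    rw [hP, Subgroup.mem_comap, MonoidHom.mem_ker.1 hx]; exact one_mem _
  let τ : (P : Subgroup Γ) →* H := e.toMonoidHom.comp
    ((σ.comp (P : Subgroup Γ).subtype).codRestrict (Q : Subgroup G) fun x => by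
      have : (x : Γ) ∈ (P : Subgroup Γ) := x.2
      exact Subgroup.mem_comap.1 (hP.le this))
  have hτs : Function.Surjective τ := by
    refine e.surjective.comp fun y => ?_
    obtain ⟨x, hx⟩ := hσ.1 (y : G)
    exact ⟨⟨x, by rw [hP, Subgroup.mem_comap, hx]; exact y.2⟩, Subtype.ext hx⟩
  have hτk : ∀ x : (P : Subgroup Γ), x ∈ τ.ker ↔ (x : Γ) ∈ σ.ker := fun x => by
    rw [MonoidHom.mem_ker, MonoidHom.mem_ker, MonoidHom.comp_apply]
    exact ⟨fun h => congrArg Subtype.val (e.injective (h.trans (map_one e).symm)),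
      fun h => (congrArg e (Subtype.ext h : _ = (1 : (Q : Subgroup G)))).trans (map_one e)⟩
  have hτ : Cfsg.IsStemExtension τ := by
    refine ⟨hτs, fun x hx => Subgroup.mem_center_iff.2 fun y => Subtype.ext (hc _ ((hτk x).1 hx) _), ?_⟩
    intro x hx
    let f : (P : Subgroup Γ) →* Abelianization (P : Subgroup Γ) := Abelianization.of
    have h2 : MonoidHom.transfer f (x : Γ) = 1 :=
      Abelianization.commutator_subset_ker (MonoidHom.transfer f) (hσ.2.2 ((hτk x).1 hx))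
    rw [MonoidHom.transfer_eq_pow f (x : Γ) fun k g _ => by
      rw [mul_assoc, ← (Commute.pow_right (hc _ ((hτk x).1 hx) g) k).eq, inv_mul_cancel_left]] at h2
    have h3 : x ^ (P : Subgroup Γ).index ∈ commutator (P : Subgroup Γ) := by
      rw [← Abelianization.ker_of, MonoidHom.mem_ker]
      refine (congrArg f (Subtype.ext ?_)).trans h2
      rw [Subgroup.coe_pow]
    have hcop : Nat.Coprime (P : Subgroup Γ).index (orderOf x) := by
      obtain ⟨i, hi⟩ := hK ⟨x, (hτk x).1 hx⟩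
      have hpi : x ^ p ^ i = 1 := Subtype.ext (congrArg (fun y : σ.ker => (y : Γ)) hi :)
      refine Nat.Coprime.coprime_dvd_right (orderOf_dvd_of_pow_eq_one hpi) (Nat.Coprime.pow_right i ?_)
      exact Nat.coprime_comm.1 ((Nat.Prime.coprime_iff_not_dvd hp.out).2 P.not_dvd_index)
    obtain ⟨j, hj⟩ := exists_pow_eq_self_of_coprime hcop
    rw [← hj]
    exact pow_mem h3 j
  obtain ⟨π, hπ⟩ := exists_surj hB hτ
  have : Nat.card τ.ker = Nat.card σ.ker := Nat.card_congr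
    { toFun := fun x => ⟨((x : (P : Subgroup Γ)) : Γ), (hτk _).1 x.2⟩
      invFun := fun x => ⟨⟨x, hKP _ x.2⟩, (hτk _).2 x.2⟩
      left_inv := fun x => rfl
      right_inv := fun x => rfl }
  rw [← this]
  exact Subgroup.card_dvd_of_surjective π hπ

theorem pow_dvd_card {p : ℕ} [hp : Fact p.Prime] {Γ : Type v} [Group Γ] [Finite Γ] {σ : Γ →* G}
    (hσ : Cfsg.IsStemExtension σ) (Q : Sylow p G) {H : Type z} [Group H] (e : (Q : Subgroup G) ≃* H)
    {B : Type w} [CommGroup B] (hB : Cfsg.HasSchurMultiplier H B) {k : ℕ} (hk : p ^ k ∣ Nat.card σ.ker) :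
    p ^ k ∣ Nat.card B := by
  classical
  set m := Nat.card σ.ker / p ^ (Nat.card σ.ker).factorization p with hm
  have hpm : ¬ p ∣ m := Nat.not_dvd_ordCompl hp.out Nat.card_pos.ne'
  have hc : ∀ x ∈ σ.ker, ∀ g, g * x = x * g := fun x hx => Subgroup.mem_center_iff.1 (hσ.2.1 hx)
  let N : Subgroup Γ :=
    { carrier := {x | x ∈ σ.ker ∧ x ^ m = 1}
      one_mem' := ⟨one_mem _, one_pow m⟩
      mul_mem' := fun {x y} hx hy => ⟨mul_mem hx.1 hy.1, by
        rw [(show Commute x y from (hc _ hx.1 y).symm).mul_pow, hx.2, hy.2, one_mul]⟩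
      inv_mem' := fun {x} hx => ⟨inv_mem hx.1, by rw [inv_pow, hx.2, inv_one]⟩ }
  have hN : N ≤ σ.ker := fun x hx => hx.1
  haveI : N.Normal := ⟨fun x hx g => by rwa [hc _ hx.1 g, mul_inv_cancel_right]⟩
  let τ : Γ ⧸ N →* G := QuotientGroup.lift N σ hN
  have hτk : τ.ker = σ.ker.map (QuotientGroup.mk' N) := QuotientGroup.ker_lift N σ hN
  have hτ : Cfsg.IsStemExtension τ := by
    refine ⟨fun g => ?_, ?_, ?_⟩
    · obtain ⟨x, hx⟩ := hσ.1 g
      exact ⟨(x : Γ ⧸ N), hx⟩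
    · rw [hτk]
      rintro _ ⟨x, hx, rfl⟩
      refine Subgroup.mem_center_iff.2 fun y => ?_
      obtain ⟨y, rfl⟩ := QuotientGroup.mk'_surjective N y
      rw [← map_mul, ← map_mul, hc x hx]
    · rw [hτk, ← map_commutator_surjective _ (QuotientGroup.mk'_surjective N)]
      exact Subgroup.map_mono hσ.2.2
  have hτp : IsPGroup p τ.ker := by
    rintro ⟨y, hy⟩
    rw [hτk] at hy
    obtain ⟨x, hx, rfl⟩ := hy
    refine ⟨(Nat.card σ.ker).factorization p, Subtype.ext ?_⟩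
    change (QuotientGroup.mk' N x) ^ p ^ _ = 1
    rw [← map_pow]
    refine (QuotientGroup.eq_one_iff _).2 ⟨pow_mem hx _, ?_⟩
    rw [← pow_mul, hm, Nat.ordProj_mul_ordCompl_eq_self]
    have := pow_card_eq_one' (x := (⟨x, hx⟩ : σ.ker))
    exact congrArg Subtype.val this
  refine dvd_trans ?_ (dvd_card_of_pGroup hτ hτp Q e hB)
  have hcard : Nat.card σ.ker = Nat.card (N.subgroupOf σ.ker) * Nat.card τ.ker := by
    rw [← Subgroup.card_mul_index (N.subgroupOf σ.ker)]
    congr 1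
    rw [hτk, ← Subgroup.relIndex]
    have h : (QuotientGroup.mk' N).ker = N := QuotientGroup.ker_mk' N
    rw [← Subgroup.relIndex_ker, h]
  rw [hcard] at hk
  refine (Nat.Coprime.dvd_of_dvd_mul_left (Nat.Coprime.pow_left k ?_) hk)
  refine (hp.out.coprime_iff_not_dvd).2 fun hd => ?_
  obtain ⟨x, hx⟩ := exists_prime_orderOf_dvd_card' p hd
  refine hpm ?_
  have h1 : ((x : σ.ker) : Γ) ^ m = 1 := x.2.2
  have h2 : orderOf ((x : σ.ker) : Γ) = p := by
    rw [Subgroup.orderOf_coe, Subgroup.orderOf_coe, hx]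
  rw [← h2]
  exact orderOf_dvd_of_pow_eq_one h1

/-- A group with a stem extension of square-free degree `n` bounding all others. -/
theorem hasCyclic_of {n : ℕ} (hn : Squarefree n) [Finite G] {Γ : Type v} [Group Γ] [Finite Γ]
    {σ : Γ →* G} (hσ : Cfsg.IsStemExtension σ) (hcard : Nat.card σ.ker = n)
    (hbd : ∀ (Δ : Type u) [Group Δ] [Finite Δ] (τ : Δ →* G), Cfsg.IsStemExtension τ →
      Nat.card τ.ker ∣ n) :
    Cfsg.HasCyclicSchurMultiplier G n := by
  haveI : NeZero n := ⟨hn.ne_zero⟩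
  have hcyc : ∀ {Δ : Type u} [Group Δ] [Finite Δ] (τ : Δ →* G), Cfsg.IsStemExtension τ →
      Nat.card τ.ker ∣ n → IsCyclic τ.ker := by
    intro Δ _ _ τ hτ hd
    letI : CommGroup τ.ker :=
      { (inferInstance : Group τ.ker) with
        mul_comm := fun a b => Subtype.ext (Subgroup.mem_center_iff.1 (hτ.2.1 b.2) (a : Δ)) }
    refine IsCyclic.of_exponent_eq_card (Nat.dvd_antisymm Group.exponent_dvd_nat_card ?_)
    have hsq := hn.squarefree_of_dvd hd
    rw [← Nat.prod_primeFactors_of_squarefree hsq]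
    refine Finset.prod_primes_dvd _ (fun q hq => (Nat.prime_of_mem_primeFactors hq).prime) fun q hq => ?_
    haveI := Fact.mk (Nat.prime_of_mem_primeFactors hq)
    obtain ⟨x, hx⟩ := exists_prime_orderOf_dvd_card' (G := τ.ker) q (Nat.dvd_of_mem_primeFactors hq)
    rw [← hx]
    exact Monoid.order_dvd_exponent x
  obtain ⟨Γ', iG, iF, σ', hσ', ⟨e⟩⟩ := exists_stem_model hσ (MulEquiv.refl σ.ker)
  have hcard' : Nat.card σ'.ker = n := (Nat.card_congr e.toEquiv).trans hcard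
  haveI := hcyc σ' hσ' (dvd_of_eq hcard')
  refine ⟨⟨Γ', iG, iF, σ', hσ', ⟨mulEquivOfCyclicCardEq (by rw [hcard', Nat.card_congr Multiplicative.toAdd, Nat.card_zmod])⟩⟩,
    fun Δ _ _ τ hτ => ?_⟩
  haveI := hcyc τ hτ (hbd Δ τ hτ)
  obtain ⟨g, hg⟩ := IsCyclic.exists_generator (α := τ.ker)
  refine exists_surj_zmod (c := (g : Δ)) ?_ τ.ker fun x hx => ?_
  · have h1 : g ^ n = 1 := orderOf_dvd_iff_pow_eq_one.1 ((orderOf_dvd_natCard g).trans (hbd Δ τ hτ))
    exact congrArg Subtype.val h1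
  · obtain ⟨i, hi⟩ := hg ⟨x, hx⟩
    exact ⟨i, congrArg Subtype.val hi⟩

end CfsgLib.SchurSylow
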